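import Groth.Agent.L13.ModPair.Localized
import Groth.Agent.L13.ModPair.MinimalComp
import Groth.Agent.L18.RelAmpleCrit

/-! Coverings of the interior extend after an admissible blow-up. -/

set_option autoImplicit false

universe u

open CategoryTheory CategoryTheory.Limits AlgebraicGeometry TopologicalSpace Opposite

namespace Groth.L13.MP

open Groth.L22

variable {X Y : Scheme.{u}}

theorem locFG_bot : LocFG (⊥ : X.IdealSheafData) :=
  LocFG.of_fg fun U => by
    rw [Scheme.IdealSheafData.ideal_bot]; exact Submodule.fg_bot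

theorem comap_finsetSum {σ : Type u} (f : X ⟶ Y) (t : Finset σ) (K : σ → Y.IdealSheafData) :
    (∑ i ∈ t, K i).comap f = ∑ i ∈ t, (K i).comap f := by
  classical
  induction t using Finset.induction with
  | empty => simp only [Finset.sum_empty]; exact Scheme.IdealSheafData.comap_bot (f := f)
  | insert a s ha ih =>
    rw [Finset.sum_insert ha, Finset.sum_insert ha, ← sup_eq_add, ← sup_eq_add,
      Scheme.IdealSheafData.comap_sup, ih]

theorem exists_notMem_support {σ : Type u} (t : Finset σ) (K : σ → X.IdealSheafData) {x : X}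
    (hx : x ∉ (∑ i ∈ t, K i).support) : ∃ i ∈ t, x ∉ (K i).support := by
  classical
  induction t using Finset.induction with
  | empty =>
    refine (hx ?_).elim
    rw [Finset.sum_empty, show (0 : X.IdealSheafData) = ⊥ from rfl, Scheme.IdealSheafData.support_bot]
    trivial
  | insert a s ha ih =>
    rw [Finset.sum_insert ha, ← sup_eq_add, Scheme.IdealSheafData.support_sup] at hx
    by_cases h : x ∈ (K a).support
    · obtain ⟨i, hi, hxi⟩ := ih fun h' => hx ⟨h, h'⟩
      exact ⟨i, Finset.mem_insert_of_mem hi, hxi⟩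
    · exact ⟨a, Finset.mem_insert_self _ _, h⟩

theorem exists_extend_cover {S : Scheme.{u}} [CompactSpace S] [QuasiSeparatedSpace S] (I : S.IdealSheafData)
    (hI : BlowUp.IsEffCartierIdeal I) {ι : Type u} (V : ι → S.Opens)
    (hVqc : ∀ i, IsCompact (V i : Set S)) (hcov : ModPair.interior I ≤ ⨆ i, V i) :
    ∃ (F : S.IdealSheafData) (Y : Scheme.{u}) (b : Y ⟶ S) (κ : Type u) (W : κ → Y.Opens),
      BlowUp.IsAdmissibleFor (ModPair.interior I) F ∧ BlowUp.IsBlowUp b F ∧
        BlowUp.IsEffCartierIdeal (I.comap b) ∧ (∀ k, IsCompact (W k : Set Y)) ∧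
        (⨆ k, W k) = ⊤ ∧ ∀ k, ∃ i, W k ⊓ b ⁻¹ᵁ ModPair.interior I ≤ b ⁻¹ᵁ V i := by
  classical
  haveI := quasiCompact_interior hI
  have hU : IsCompact (ModPair.interior I : Set S) := by
    have h : CompactSpace (ModPair.interior I).toScheme := QuasiCompact.compactSpace_of_compactSpace (ModPair.interior I).ι
    exact isCompact_iff_compactSpace.2 h
  obtain ⟨t, ht⟩ := hU.elim_finite_subcover (fun i => (V i : Set S)) (fun i => (V i).2) fun x hx =>
    Set.mem_iUnion.2 (Opens.mem_iSup.1 (hcov hx))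
  choose K hKfg hKs using fun i =>
    (let ⟨J, hJ, hs, _⟩ := Groth.L18.IdealModule.exists_finiteType_of_isCompact (V i) (hVqc i)
     (⟨J, hJ, hs⟩ : ∃ J : S.IdealSheafData, (∀ W : S.affineOpens, (J.ideal W).FG) ∧
        (J.support : Set S) = (V i : Set S)ᶜ))
  let F := ∑ i ∈ t, K i
  have hFfg : LocFG F := by
    refine Finset.sum_induction K LocFG (fun J J' h h' => ?_) locFG_bot fun i _ => LocFG.of_fg (hKfg i)
    rw [← sup_eq_add]; exact h.sup h'
  have hle : ∀ i ∈ t, K i ≤ F := fun i hi => by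
    show K i ≤ ∑ j ∈ t, K j
    rw [← Finset.add_sum_erase _ _ hi, ← sup_eq_add]
    exact le_sup_left
  have hdisj : Disjoint (F.support : Set S) (ModPair.interior I : Set S) := by
    refine Set.disjoint_left.2 fun x hxF hxU => ?_
    obtain ⟨i, hi, hxi⟩ := Set.mem_iUnion₂.1 (ht hxU)
    exact (hKs i ▸ (Scheme.IdealSheafData.support_antitone (hle i hi) hxF) : x ∈ (V i : Set S)ᶜ) hxi
  obtain ⟨Y, b, hb⟩ := BU.exists_isBlowUp F
  let E := F.comap b
  let K' : ι → Y.IdealSheafData := fun i => colon ((K i).comap b) (LocFG.of_isEffCartier hb.1)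
  have hK' : ∀ i ∈ t, K' i * E = (K i).comap b := fun i hi =>
    colon_mul hb.1 (Scheme.IdealSheafData.comap_mono b (hle i hi))
  have hsum : ∑ i ∈ t, K' i = ⊤ := by
    refine eq_of_mul_eq (E := E) hb.1 ?_
    rw [top_mul', Finset.sum_mul, Finset.sum_congr rfl hK', ← comap_finsetSum]
  refine ⟨F, Y, b, {W : Y.affineOpens // ∃ i, W.1 ⊓ b ⁻¹ᵁ ModPair.interior I ≤ b ⁻¹ᵁ V i}, fun k => k.1.1,
    ⟨fun W => hFfg.fg W, hdisj⟩, hb, Ideals.isEffCartier_comap hb hI, fun k => k.1.2.isCompact, ?_, fun k => k.2⟩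
  refine eq_top_iff.2 fun y _ => ?_
  obtain ⟨i, hi, hyi⟩ := exists_notMem_support t K' (x := y) (by
    rw [hsum, Scheme.IdealSheafData.support_top]
    exact fun h => h)
  obtain ⟨W, hW, hyW, hWle⟩ := exists_isAffineOpen_mem_and_subset (x := y) (U := (K' i).support.compl) hyi
  refine Opens.mem_iSup.2 ⟨⟨⟨W, hW⟩, i, ?_⟩, hyW⟩
  intro z hz
  obtain ⟨hzW, hzU⟩ := hz
  have hzE : z ∉ E.support := by
    show z ∉ (F.comap b).support
    rw [Scheme.IdealSheafData.support_comap]
    exact fun h => Set.disjoint_left.1 hdisj h hzU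
  have hzK : z ∉ ((K i).comap b).support := by
    rw [← hK' i hi, Scheme.IdealSheafData.support_mul]
    rintro (h | h)
    · exact hWle hzW h
    · exact hzE h
  rw [Scheme.IdealSheafData.support_comap] at hzK
  show b z ∈ (V i : Set S)
  by_contra hn
  exact hzK (show b z ∈ ((K i).support : Set S) by rw [hKs i]; exact hn)

end Groth.L13.MP
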